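import Groth.Agent.NodalLib.Inter
import Groth.Agent.NefH1Lib.Adjunction.Tails
import Groth.Agent.S7834
import Groth.Agent.S14512
import Groth.Agent.AlbLib.AlgClosed
import Groth.Agent.NormGenusLib.Euler
import Groth.Agent.LinearizedSSLib.Main
import Groth.Agent.KFlatLib.PerfectPull
import Groth.Agent.VBP1Lib.Twist

/-!
# Components of a nodal curve: points on other components, smooth rational components
-/

set_option autoImplicit false
set_option linter.style.haveILetI false
set_option linter.unusedSectionVars false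

universe u

open CategoryTheory CategoryTheory.Limits AlgebraicGeometry TopologicalSpace

noncomputable section

namespace StableCompLib

variable {k : Type u} [Field k] [IsAlgClosed k] {X : Scheme.{u}} [X.Over (Spec (CommRingCat.of k))]
  [IsProper (X ↘ Spec (CommRingCat.of k))] [ConnectedSpace X] (hdim : topologicalKrullDim X = 1)
  (hX : Curv2.AtWorstNodal k X) (C : Set X) (hC : C ∈ irreducibleComponents (X : Type u))

/-- The reduced structure on a component. -/
abbrev compIdeal : X.IdealSheafData :=
  Scheme.IdealSheafData.vanishingIdeal ⟨C, isClosed_of_mem_irreducibleComponents C hC⟩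

/-- The rest of the curve. -/
abbrev restIdeal : X.IdealSheafData :=
  (Scheme.Opens.ι (⟨Cᶜ, (isClosed_of_mem_irreducibleComponents C hC).isOpen_compl⟩ : X.Opens)).ker

instance instOverComp : (compIdeal C hC).subscheme.Over (Spec (CommRingCat.of k)) :=
  ⟨(compIdeal C hC).subschemeι ≫ (X ↘ Spec (CommRingCat.of k))⟩

include k in
omit [IsAlgClosed k] in
theorem meetPts_eq (hC : C ∈ irreducibleComponents (X : Type u)) : CurvSt.meetPts X C = C ∩ closure Cᶜ := by
  haveI := CurvLib.isNoetherian k (X := X)
  ext p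
  constructor
  · rintro ⟨hpC, E, hE, hne, hpE⟩
    refine ⟨hpC, ?_⟩
    by_contra hp
    -- a component containing `p` outside the closure of the complement lies in `C`
    have hirr : IsPreirreducible E := hE.1.2
    have hsub : E ⊆ C := by
      refine (subset_closure_inter_of_isPreirreducible_of_isOpen hirr isClosed_closure.isOpen_compl
        ⟨p, hpE, hp⟩).trans (closure_minimal ?_ (isClosed_of_mem_irreducibleComponents C hC))
      rintro z ⟨-, hz⟩
      by_contra hzC
      exact hz (subset_closure hzC)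
    exact hne (le_antisymm hsub (hE.2 hC.1 hsub))
  · rintro ⟨hpC, hp⟩
    have hfin := NoetherianSpace.finite_irreducibleComponents (α := (X : Type u))
    have hsub : Cᶜ ⊆ ⋃ E ∈ irreducibleComponents (X : Type u) \ {C}, E := fun z hz =>
      Set.mem_biUnion (x := irreducibleComponent z) ⟨irreducibleComponent_mem_irreducibleComponents z,
        fun h => hz ((Set.mem_singleton_iff.1 h) ▸ mem_irreducibleComponent)⟩ mem_irreducibleComponent
    obtain ⟨E, hE, hpE⟩ := Set.mem_iUnion₂.1 (closure_minimal hsub
      ((hfin.subset Set.diff_subset).isClosed_biUnion fun E hE => isClosed_of_mem_irreducibleComponents E hE.1) hp)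
    exact ⟨hpC, E, hE.1, hE.2, hpE⟩

include k in
omit [IsAlgClosed k] in
theorem rest_support :
    ((restIdeal C hC).support : Set X) = closure Cᶜ := by
  haveI := CurvLib.isNoetherian k (X := X)
  rw [Scheme.Hom.support_ker, Scheme.Opens.range_ι]
  rfl

include k hdim hX in
omit [IsAlgClosed k] in
theorem isProper_comp : IsProper ((compIdeal C hC).subscheme ↘ Spec (CommRingCat.of k)) ∧
    IsIntegral (compIdeal C hC).subscheme ∧ topologicalKrullDim (compIdeal C hC).subscheme = 1 := by
  haveI := NodalLib.isReduced k hX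
  refine ⟨inferInstanceAs (IsProper ((compIdeal C hC).subschemeι ≫ (X ↘ Spec (CommRingCat.of k)))),
    AmpleDevLib.isIntegral_vanishingIdeal ⟨C, isClosed_of_mem_irreducibleComponents C hC⟩ hC.1,
    (NefH1Lib.Adj.component_facts k hdim C hC).2.2.1⟩

include hdim hX in
theorem fnHom_bijective : Function.Bijective (NefH1Lib.Adj.fnHom k (compIdeal C hC)) := by
  obtain ⟨-, hint, -⟩ := isProper_comp (k := k) hdim hX C hC
  haveI := hint
  letI : Algebra k Γ((compIdeal C hC).subscheme, ⊤) := (NefH1Lib.Adj.fnHom k (compIdeal C hC)).toAlgebra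
  haveI : Module.Finite k Γ((compIdeal C hC).subscheme, ⊤) := NefH1Lib.Adj.finite_fn k _
  exact IsAlgClosed.algebraMap_bijective_of_isIntegral

include hdim hX in
theorem h0_comp : Module.finrank k (Coh.HH X (ClSub.quotMod (compIdeal C hC)) 0) = 1 := by
  rw [NefH1Lib.Adj.finrank_fn k]
  letI : Algebra k Γ((compIdeal C hC).subscheme, ⊤) := (NefH1Lib.Adj.fnHom k (compIdeal C hC)).toAlgebra
  exact (LinearEquiv.ofBijective (Algebra.linearMap k Γ((compIdeal C hC).subscheme, ⊤))
    (fnHom_bijective hdim hX C hC)).finrank_eq.symm.trans (Module.finrank_self k)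

include hdim hX in
theorem evaluation_bijective (c : (compIdeal C hC).subscheme) (hc : IsClosed ({c} : Set (compIdeal C hC).subscheme)) :
    Function.Bijective ((compIdeal C hC).subscheme.evaluation ⊤ c trivial) := by
  obtain ⟨hp, -, -⟩ := isProper_comp (k := k) hdim hX C hC
  haveI := hp
  have h1 := NormGenusLib.resMap_bijective (k := k) (X := (compIdeal C hC).subscheme) hc
  have h2 := fnHom_bijective hdim hX C hC
  exact (Function.Bijective.of_comp_iff _ h2).1 h1

include hdim hX in
theorem meet_finite : (C ∩ closure Cᶜ).Finite ∧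
    Module.finrank k (Coh.HH X (ClSub.quotMod (compIdeal C hC ⊔ restIdeal C hC)) 0) = (C ∩ closure Cᶜ).ncard ∧
    AlgebraicGeometry.IsReduced (compIdeal C hC ⊔ restIdeal C hC).subscheme ∧
    ((compIdeal C hC ⊔ restIdeal C hC).support : Set X) = C ∩ closure Cᶜ := by
  haveI := NodalLib.isReduced k hX
  haveI := CurvLib.isNoetherian k (X := X)
  obtain ⟨hr, hc, hd, he⟩ := NefH1Lib.Adj.component_facts k hdim C hC
  obtain ⟨h1, h2, h3⟩ := NodalLib.inter_facts k hdim hX (compIdeal C hC) hr hc hd
  rw [← he] at h1 h2 h3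
  have hsupp : ((compIdeal C hC).support : Set X) = C := Scheme.IdealSheafData.coe_support_vanishingIdeal _
  rw [hsupp] at h3
  haveI := h1
  refine ⟨?_, ?_, h1, h3⟩
  · rw [← h3]
    refine (CurvLib.finite_isClosed_of_dim_le_zero (compIdeal C hC ⊔ restIdeal C hC).support.isClosed ?_).1
    rw [← (compIdeal C hC ⊔ restIdeal C hC).range_subschemeι]
    rwa [← (compIdeal C hC ⊔ restIdeal C hC).subschemeι.isEmbedding.toHomeomorph.isHomeomorph.topologicalKrullDim_eq]
  · rw [NodalLib.finrank_h0_eq_card k _ h2, h3, Nat.card_coe_set_eq]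

include hdim hX in
theorem smRat_iff : CurvSt.IsSmRatComp k X (X ↘ Spec (CommRingCat.of k)) C ↔
    Subsingleton (Coh.HH (compIdeal C hC).subscheme (Coh.structureModule (compIdeal C hC).subscheme) 1) := by
  obtain ⟨hp, hint, hd⟩ := isProper_comp (k := k) hdim hX C hC
  haveI := hp
  haveI := hint
  haveI := CurvLib.isNoetherian k (X := (compIdeal C hC).subscheme)
  haveI := CurvLib.finite_HH (k := k)
    (CurvLib.isCoh_of_isInvertible (CurvLib.isInvertible_structureModule (X := (compIdeal C hC).subscheme))) 1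
  have hg : Subsingleton (Coh.HH (compIdeal C hC).subscheme (Coh.structureModule (compIdeal C hC).subscheme) 1) ↔
      Curv2.genus k (compIdeal C hC).subscheme = 0 := (Module.finrank_zero_iff (R := k)).symm
  rw [hg]
  constructor
  · rintro ⟨-, e, he, heq, hrange⟩
    haveI := he
    haveI : IsIntegral (CohB1.ProjSpace 1 k) := GenusZeroLib.isIntegral_projSpace k 1
    have hker : e.ker = compIdeal C hC := by
      rw [AlgSpRegLib.ker_eq_vanishingIdeal]
      exact congrArg _ (Closeds.ext (by rw [Closeds.coe_closure, hrange]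
                                        exact (isClosed_of_mem_irreducibleComponents C hC).closure_eq))
    haveI : IsIso e.toImage := inferInstance
    let φ : CohB1.ProjSpace 1 k ≅ (compIdeal C hC).subscheme :=
      asIso e.toImage ≪≫ eqToIso (congrArg Scheme.IdealSheafData.subscheme hker)
    have hφ : φ.hom ≫ ((compIdeal C hC).subscheme ↘ Spec (CommRingCat.of k)) = CohB1.ProjSpace.toSpec 1 k := by
      have h1 : φ.hom ≫ (compIdeal C hC).subschemeι = e := by
        have hι : ∀ {I J : X.IdealSheafData} (hIJ : I = J),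
            eqToHom (congrArg Scheme.IdealSheafData.subscheme hIJ) ≫ J.subschemeι = I.subschemeι := by
          rintro I _ rfl; exact Category.id_comp _
        simp only [φ, Iso.trans_hom, asIso_hom, eqToIso.hom, Category.assoc, hι hker]
        exact e.toImage_imageι
      exact (Category.assoc _ _ _).symm.trans ((congrArg (· ≫ (X ↘ Spec (CommRingCat.of k))) h1).trans heq)
    haveI : Coh.IsQCoh (Coh.structureModule (compIdeal C hC).subscheme) := QCohLib.isQCoh_unit
    haveI : Coh.IsQCoh (Coh.structureModule (CohB1.ProjSpace 1 k)) := QCohLib.isQCoh_unit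
    haveI : Coh.IsQCoh ((Scheme.Modules.pullback φ.hom).obj (Coh.structureModule (compIdeal C hC).subscheme)) :=
      (QCohLib.isCoh_of_iso (KFlatLib.pullUnitIso φ.hom).symm (CurvLib.isCoh_of_isInvertible CurvLib.isInvertible_structureModule)).1
    have h2 := LinearizedSSLib.finrank_HH_of_iso (k := k) φ.hom hφ (Coh.structureModule (compIdeal C hC).subscheme) 1
    show Module.finrank k (Coh.HH (compIdeal C hC).subscheme _ 1) = 0
    rw [← h2, (CurvLib.hIso (k := k) (KFlatLib.pullUnitIso φ.hom) 1).finrank_eq]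
    exact VBP1Lib.genus_line k
  · intro h
    haveI : IsIntegral (Over.mk ((compIdeal C hC).subscheme ↘ Spec (CommRingCat.of k))).left := hint
    haveI : LocallyOfFiniteType (Over.mk ((compIdeal C hC).subscheme ↘ Spec (CommRingCat.of k))).hom :=
      inferInstanceAs (LocallyOfFiniteType ((compIdeal C hC).subscheme ↘ Spec (CommRingCat.of k)))
    haveI : GeometricallyIntegral ((compIdeal C hC).subscheme ↘ Spec (CommRingCat.of k)) :=
      AlbLib.geometricallyIntegral_of_isIntegral (Over.mk ((compIdeal C hC).subscheme ↘ Spec (CommRingCat.of k)))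
    obtain ⟨φ, hφ⟩ := Groth.Agent.S7834.result k (compIdeal C hC).subscheme hd h
    refine ⟨hC, φ.inv ≫ (compIdeal C hC).subschemeι, inferInstance, ?_, ?_⟩
    · rw [Category.assoc]
      exact (Iso.inv_comp_eq φ).2 hφ.symm
    · rw [Scheme.Hom.comp_base]
      show Set.range ((compIdeal C hC).subschemeι ∘ φ.inv) = C
      rw [Set.range_comp, (show Function.Surjective φ.inv from φ.inv.homeomorph.surjective).range_eq, Set.image_univ, Scheme.IdealSheafData.range_subschemeι,
        Scheme.IdealSheafData.coe_support_vanishingIdeal]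
      rfl

include hdim hX in
theorem isRationalTail_iff' : Curv2.IsRationalTail X C hC ↔
    (C ∩ closure Cᶜ).ncard = 1 ∧
      Subsingleton (Coh.HH (compIdeal C hC).subscheme (Coh.structureModule (compIdeal C hC).subscheme) 1) := by
  obtain ⟨hfin, -, hred, hsupp⟩ := meet_finite hdim hX C hC
  rw [NefH1Lib.Adj.isRationalTail_iff]
  constructor
  · rintro ⟨-, ⟨⟨z⟩, hsub, -, -⟩, hg⟩
    refine ⟨Set.ncard_eq_one.2 ⟨(compIdeal C hC ⊔ restIdeal C hC).subschemeι z, ?_⟩, hg⟩
    rw [← hsupp, ← Scheme.IdealSheafData.range_subschemeι]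
    haveI : Subsingleton (compIdeal C hC ⊔ restIdeal C hC).subscheme := hsub
    ext a
    refine ⟨?_, fun h => ⟨z, h.symm⟩⟩
    rintro ⟨w, rfl⟩
    rw [Subsingleton.elim w z]
    rfl
  · rintro ⟨h1, hg⟩
    obtain ⟨p, hp⟩ := Set.ncard_eq_one.1 h1
    have hr : Set.range (compIdeal C hC ⊔ restIdeal C hC).subschemeι = {p} := by
      rw [Scheme.IdealSheafData.range_subschemeι, hsupp, hp]
    refine ⟨?_, ⟨?_, ?_, hred, fun c => ?_⟩, hg⟩
    · rw [rest_support (k := k) C hC]
      exact ⟨p, ((hp ▸ rfl : p ∈ C ∩ closure Cᶜ)).2⟩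
    · obtain ⟨z, -⟩ : p ∈ Set.range (compIdeal C hC ⊔ restIdeal C hC).subschemeι := hr ▸ rfl
      exact ⟨z⟩
    · refine ⟨fun a b => (compIdeal C hC ⊔ restIdeal C hC).subschemeι.isEmbedding.injective ?_⟩
      have ha : (compIdeal C hC ⊔ restIdeal C hC).subschemeι a ∈ ({p} : Set X) := hr ▸ ⟨a, rfl⟩
      have hb : (compIdeal C hC ⊔ restIdeal C hC).subschemeι b ∈ ({p} : Set X) := hr ▸ ⟨b, rfl⟩
      exact ha.trans hb.symm
    · refine evaluation_bijective hdim hX C hC _ ?_
      have hcl := (Scheme.IdealSheafData.inclusion (le_sup_left : compIdeal C hC ≤ compIdeal C hC ⊔ restIdeal C hC)).isClosedEmbedding.isClosedMap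
      have hsub : Subsingleton (compIdeal C hC ⊔ restIdeal C hC).subscheme := by
        refine ⟨fun a b => (compIdeal C hC ⊔ restIdeal C hC).subschemeι.isEmbedding.injective ?_⟩
        have ha : (compIdeal C hC ⊔ restIdeal C hC).subschemeι a ∈ ({p} : Set X) := hr ▸ ⟨a, rfl⟩
        have hb : (compIdeal C hC ⊔ restIdeal C hC).subschemeι b ∈ ({p} : Set X) := hr ▸ ⟨b, rfl⟩
        exact ha.trans hb.symm
      have hc : ({c} : Set (compIdeal C hC ⊔ restIdeal C hC).subscheme) = Set.univ :=
        Set.eq_univ_of_forall fun a => Subsingleton.elim a c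
      have := hcl _ (hc ▸ isClosed_univ)
      rwa [Set.image_singleton] at this

include hdim hX in
theorem isRationalBridge_iff' : Curv2.IsRationalBridge k X C hC ↔
    (C ∩ closure Cᶜ).ncard = 2 ∧
      Subsingleton (Coh.HH (compIdeal C hC).subscheme (Coh.structureModule (compIdeal C hC).subscheme) 1) := by
  obtain ⟨hfin, hh, -, -⟩ := meet_finite hdim hX C hC
  unfold Curv2.IsRationalBridge
  simp only []
  rw [hh, h0_comp hdim hX C hC, mul_one]
  refine ⟨fun ⟨_, a, b⟩ => ⟨a, b⟩, fun ⟨a, b⟩ => ⟨?_, a, b⟩⟩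
  rw [rest_support (k := k) C hC]
  obtain ⟨p, q, -, hpq⟩ := Set.ncard_eq_two.1 a
  exact ⟨p, ((hpq ▸ Or.inl rfl : p ∈ C ∩ closure Cᶜ)).2⟩

include hdim hX in
theorem genus_eq_zero_of_meet_empty (h : C ∩ closure Cᶜ = ∅)
    (hg : Subsingleton (Coh.HH (compIdeal C hC).subscheme (Coh.structureModule (compIdeal C hC).subscheme) 1)) :
    Curv2.genus k X = 0 := by
  haveI := NodalLib.isReduced k hX
  haveI := CurvLib.isNoetherian k (X := X)
  obtain ⟨hp, hint, hd⟩ := isProper_comp (k := k) hdim hX C hC
  haveI := hp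
  have hcl : IsClosed Cᶜ := closure_subset_iff_isClosed.1 fun z hz hzC => by
    have : z ∈ C ∩ closure Cᶜ := ⟨hzC, hz⟩
    rw [h] at this
    exact this
  have huniv : C = Set.univ := by
    rcases isClopen_iff.1 (⟨isClosed_of_mem_irreducibleComponents C hC, isClosed_compl_iff.1 hcl⟩ : IsClopen C) with he | he
    · exact absurd he hC.1.1.ne_empty
    · exact he
  have hbot : compIdeal C hC = ⊥ := by
    have e : (⟨C, isClosed_of_mem_irreducibleComponents C hC⟩ : Closeds X) = ⊤ := Closeds.ext huniv
    show Scheme.IdealSheafData.vanishingIdeal _ = ⊥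
    rw [e, Scheme.IdealSheafData.vanishingIdeal_top, Scheme.nilradical_eq_bot]
  haveI : IsIso (compIdeal C hC).subschemeι := by rw [hbot]; infer_instance
  haveI : Coh.IsQCoh (Coh.structureModule X) := QCohLib.isQCoh_unit
  haveI : Coh.IsQCoh ((Scheme.Modules.pullback (compIdeal C hC).subschemeι).obj (Coh.structureModule X)) :=
    (QCohLib.isCoh_of_iso (KFlatLib.pullUnitIso (compIdeal C hC).subschemeι).symm (CurvLib.isCoh_of_isInvertible CurvLib.isInvertible_structureModule)).1
  show Module.finrank k (Coh.HH X (Coh.structureModule X) 1) = 0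
  rw [← LinearizedSSLib.finrank_HH_of_iso (k := k) (compIdeal C hC).subschemeι rfl (Coh.structureModule X) 1,
    (CurvLib.hIso (k := k) (KFlatLib.pullUnitIso (compIdeal C hC).subschemeι) 1).finrank_eq]
  exact Module.finrank_zero_of_subsingleton

end StableCompLib

end
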